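import Cfsg.Agent.Spor.S85.S.D0

set_option autoImplicit false
set_option maxRecDepth 100000000
set_option Elab.async false

namespace Cfsg.Agent.Spor.S85.S

theorem gr4 : sub M3 (U.growI W2 [1, 2, 3, 4, 4, 1, 0] (Nat.shiftLeft 1 6)) = true := by decide +kernel

theorem sd6 : U.sends [9, 3, 7, 9] 0 6 = true := by decide +kernel

theorem gr7 : sub (ones 85) (U.growI ([9, 3, 7, 9] :: W2) [0, 2, 3, 4, 5, 5, 2, 1, 0, 0, 1, 2, 3, 4] (Nat.shiftLeft 1 0)) = true := by decide +kernel

theorem gr10 : sub M9 (U.growI W2 [1, 3, 4, 4, 3, 2, 1, 0, 1, 3] (Nat.shiftLeft 1 1)) = true := by decide +kernel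

theorem sd12 : U.sends [9] 0 1 = true := by decide +kernel

theorem gr13 : sub (ones 85) (U.growI ([9] :: W2) [0, 2, 4, 5, 5, 4, 3, 2, 1, 0, 4, 5] (Nat.shiftLeft 1 0)) = true := by decide +kernel

theorem ff15 : U.fixFrom 7 85 1 = true := by decide +kernel

theorem ff16 : U.fixFrom 7 85 3 = true := by decide +kernel

theorem ff17 : U.fixFrom 7 85 5 = true := by decide +kernel

theorem ff18 : U.fixFrom 7 85 7 = true := by decide +kernel

theorem ff19 : U.fixFrom 7 85 9 = true := by decide +kernel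

end Cfsg.Agent.Spor.S85.S
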